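import Mathlib
import Cfsg.Prelude.Def_Local
import Cfsg.Prelude.Def_EvenType
import Cfsg.Agent.Schreier.Basic
import Cfsg.Agent.Schreier.Tools
import Cfsg.Agent.Schreier.Balance
import Cfsg.Agent.Schreier.KBalance
import Cfsg.Agent.S0023
import Cfsg.Agent.S0024
import Cfsg.Agent.FastGrp
import Cfsg.Agent.Prune
set_option linter.all false
prune_inst 0x7f00000000000000000000000000000000000000000000000000000000000000000000000000000000000000000000000000000000000000000000000000000000000000000000000000000000000000003fffffffffffffffffffffffffffbeffbdffffffff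
open scoped Cfsg.Agent.FastGrp

/-!
# Components of the centralizer of a `q`-subgroup in a group with trivial `p'`-core

`X` finite with `O_{p'}(X) = 1`, the components of `X` have the Schreier property, `Q` a `q`-subgroup, `q ≠ p`,
`K` a component of `C_X(Q)`.  Then `K ≤ E(X)` and `Q` is transitive on the components not centralised by `K`, or there is a
`QK`-invariant `p`-subgroup not centralised by `K`.
-/

set_option autoImplicit false

open scoped commutatorElement Pointwise

namespace Cfsg.Agent.H12.CompQ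

open Cfsg Cfsg.Agent.Lib Cfsg.Agent.SignalizersComponents Cfsg.Agent.Schreier.Basic Subgroup

variable {X : Type*} [Group X]

theorem mem_map_conj {H : Subgroup X} {g x : X} :
    x ∈ H.map (MulAut.conj g).toMonoidHom ↔ g⁻¹ * x * g ∈ H := by
  constructor
  · rintro ⟨y, hy, rfl⟩
    simpa [mul_assoc] using hy
  · intro h
    exact ⟨_, h, by simp only [mul_assoc, _root_.MulEquiv.toMonoidHom_eq_coe, _root_.MonoidHom.coe_coe, _root_.MulAut.conj_apply, _root_.mul_inv_cancel_left, _root_.mul_inv_cancel, _root_.mul_one]⟩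

theorem map_conj_eq {H : Subgroup X} {g : X} (h : g ∈ normalizer (H : Set X)) :
    H.map (MulAut.conj g).toMonoidHom = H := by
  ext x
  rw [mem_map_conj]
  have h1 := (mem_normalizer_iff.1 h) (g⁻¹ * x * g)
  rw [h1]
  simp [mul_assoc]

theorem mem_normalizer_of_map_eq {H : Subgroup X} {g : X} (h : H.map (MulAut.conj g).toMonoidHom = H) :
    g ∈ normalizer (H : Set X) := by
  rw [mem_normalizer_iff]
  intro x
  have h1 : g * x * g⁻¹ ∈ H.map (MulAut.conj g).toMonoidHom ↔ g * x * g⁻¹ ∈ H := by rw [h]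
  rw [← h1, mem_map_conj]
  simp [mul_assoc]

theorem map_conj_conj (H : Subgroup X) (g h : X) :
    (H.map (MulAut.conj g).toMonoidHom).map (MulAut.conj h).toMonoidHom = H.map (MulAut.conj (h * g)).toMonoidHom := by
  ext x
  simp only [mem_map_conj, mul_inv_rev, mul_assoc]

/-- An element normalising the component `L` lying in a perfect group of such elements acts as an inner
automorphism. -/
theorem exists_inner (K L : Subgroup X) (hK : ⁅K, K⁆ = K) (hL : IsQuasisimple L)
    (hSch : Sch (L ⧸ Subgroup.center L)) (hn : K ≤ normalizer (L : Set X)) {k : X} (hk : k ∈ K) :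
    ∃ l ∈ L, l⁻¹ * k ∈ centralizer (L : Set X) := by
  let f : normalizer (L : Set X) →* MulAut L := L.normalizerMonoidHom
  let F : normalizer (L : Set X) →* MulAut (L ⧸ Subgroup.center L) := (Schreier.Balance.quoAut L).comp f
  let K' : Subgroup (normalizer (L : Set X)) := K.subgroupOf (normalizer (L : Set X))
  have hK' : ⁅K', K'⁆ = K' := by
    apply Subgroup.map_injective (normalizer (L : Set X)).subtype_injective
    rw [Subgroup.map_commutator, Subgroup.subgroupOf_map_subtype, inf_eq_left.2 hn, hK]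
  have h1 : ⁅K'.map F, K'.map F⁆ = K'.map F := map_perfect F hK'
  have h2 := hSch _ h1
  have hkn : k ∈ normalizer (L : Set X) := hn hk
  have h3 : F ⟨k, hkn⟩ ∈ K'.map F := ⟨⟨k, hkn⟩, hk, rfl⟩
  obtain ⟨a, ha⟩ := h2 h3
  obtain ⟨l, rfl⟩ := QuotientGroup.mk_surjective a
  refine ⟨l, l.2, ?_⟩
  have hln : (l : X) ∈ normalizer (L : Set X) := le_normalizer l.2
  -- the automorphism induced by `l⁻¹ k`
  have h4 : Schreier.Balance.quoAut L (f (⟨l, hln⟩⁻¹ * ⟨k, hkn⟩)) = 1 := by
    rw [map_mul, map_mul, map_inv, map_inv]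
    have h5 : Schreier.Balance.quoAut L (f ⟨l, hln⟩) = MulAut.conj (QuotientGroup.mk l : L ⧸ Subgroup.center L) := by
      apply MulEquiv.ext
      intro x
      induction x using QuotientGroup.induction_on with
      | H a => rfl
    have h6 : Schreier.Balance.quoAut L (f ⟨k, hkn⟩) = F ⟨k, hkn⟩ := rfl
    rw [h5, h6, ← ha, inv_mul_cancel]
  have h7 := Schreier.Balance.eq_one_of_quoAut_eq_one hL.1 h4
  rw [mem_centralizer_iff]
  intro x hx
  have h8 : (f (⟨l, hln⟩⁻¹ * ⟨k, hkn⟩)) ⟨x, hx⟩ = ⟨x, hx⟩ := by rw [h7]; rfl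
  have h9 : ((l : X)⁻¹ * k) * x * ((l : X)⁻¹ * k)⁻¹ = x := congrArg Subtype.val h8
  rw [mul_inv_eq_iff_eq_mul] at h9
  exact h9.symm

/-- A perfect group normalising all components acts on the layer as inner automorphisms. -/
theorem exists_inner_layer [Finite X] (K : Subgroup X) (hK : ⁅K, K⁆ = K)
    (hSch : ∀ L : Subgroup X, IsComponent L → Sch (L ⧸ Subgroup.center L))
    (hn : ∀ L : Subgroup X, IsComponent L → K ≤ normalizer (L : Set X)) {k : X} (hk : k ∈ K) :
    ∃ e ∈ layer X, e⁻¹ * k ∈ centralizer (layer X : Set X) := by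
  classical
  have hfin : {L : Subgroup X | IsComponent L}.Finite := Set.toFinite _
  have key : ∀ S : Finset (Subgroup X), (∀ L ∈ S, IsComponent L) →
      ∃ e ∈ sSup (S : Set (Subgroup X)), e⁻¹ * k ∈ centralizer ((sSup (S : Set (Subgroup X)) : Subgroup X) : Set X) := by
    intro S
    induction S using Finset.induction_on with
    | empty =>
      intro _
      refine ⟨1, Subgroup.one_mem _, ?_⟩
      rw [mem_centralizer_iff]
      intro x hx
      have : x = 1 := by simpa only [_root_.Finset.coe_empty, _root_.sSup_empty, _root_.Subgroup.coe_bot, _root_.Set.mem_singleton_iff] using hx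
      rw [this]; simp
    | insert L S hLS ih =>
      intro hS
      obtain ⟨e, he, hec⟩ := ih (fun M hM => hS M (Finset.mem_insert_of_mem hM))
      have hL := hS L (Finset.mem_insert_self _ _)
      obtain ⟨l, hl, hlc⟩ := exists_inner K L hK hL.2 (hSch L hL) (hn L hL) hk
      have hSL : sSup (S : Set (Subgroup X)) ≤ centralizer (L : Set X) := by
        refine sSup_le fun M hM => ?_
        refine Components.component_le_centralizer_of_ne (hS M (Finset.mem_insert_of_mem hM)) hL ?_
        rintro rfl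
        exact hLS hM
      have hel : e * l = l * e := ((mem_centralizer_iff.1 (hSL he)) l hl).symm
      rw [Finset.coe_insert, sSup_insert]
      refine ⟨e * l, Subgroup.mul_mem _ (le_sup_right (a := L) he) (le_sup_left (a := L) hl), ?_⟩
      have h1 : (e * l)⁻¹ * k = l⁻¹ * (e⁻¹ * k) := by group
      have h2 : (e * l)⁻¹ * k = e⁻¹ * (l⁻¹ * k) := by rw [hel]; group
      have h3 : L ⊔ sSup (S : Set (Subgroup X)) ≤ centralizer ({(e * l)⁻¹ * k} : Set X) := by
        refine sup_le ?_ ?_
        · intro x hx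
          rw [mem_centralizer_singleton_iff, h2]
          have h4 := mem_centralizer_iff.1 hlc x hx
          have h5 : x * e⁻¹ = e⁻¹ * x := (mem_centralizer_iff.1 ((sSup (S : Set (Subgroup X))).inv_mem he |> fun h => hSL h)) x hx
          exact Commute.mul_right (show Commute x e⁻¹ from h5) (show Commute x (l⁻¹ * k) from h4)
        · intro x hx
          rw [mem_centralizer_singleton_iff, h1]
          have h4 := mem_centralizer_iff.1 hec x hx
          have h5 : l⁻¹ * x = x * l⁻¹ := (mem_centralizer_iff.1 (hSL hx)) _ (L.inv_mem hl)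
          exact Commute.mul_right (show Commute x l⁻¹ from h5.symm) (show Commute x (e⁻¹ * k) from h4)
      rw [mem_centralizer_iff]
      intro x hx
      exact mem_centralizer_singleton_iff.1 (h3 hx)
  obtain ⟨e, he, hec⟩ := key hfin.toFinset (fun L hL => by simpa using hL)
  rw [Set.Finite.coe_toFinset] at he hec
  exact ⟨e, he, hec⟩

/-- A perfect group normalising all components and centralising `O_p(X)`, where `O_{p'}(X) = 1`, lies in the layer. -/
theorem le_layer [Finite X] {p : ℕ} [Fact p.Prime] (hO : pPrimeCore p X = ⊥) (K : Subgroup X) (hK : ⁅K, K⁆ = K)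
    (hSch : ∀ L : Subgroup X, IsComponent L → Sch (L ⧸ Subgroup.center L))
    (hn : ∀ L : Subgroup X, IsComponent L → K ≤ normalizer (L : Set X))
    (hKp : K ≤ centralizer (pCore p X : Set X)) : K ≤ layer X := by
  have hF : fittingSubgroup X = pCore p X := PConstrained.fittingSubgroup_eq_pCore_of_pPrimeCore_eq_bot p hO
  have h1 : ∀ k ∈ K, ∃ e ∈ layer X, e⁻¹ * k ∈ centralizer (generalizedFittingSubgroup X : Set X) := by
    intro k hk
    obtain ⟨e, he, hec⟩ := exists_inner_layer K hK hSch hn hk
    refine ⟨e, he, ?_⟩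
    rw [GenFitting.genFitting_def]
    have h2 : layer X ⊔ fittingSubgroup X ≤ centralizer ({e⁻¹ * k} : Set X) := by
      refine sup_le ?_ ?_
      · intro x hx
        rw [mem_centralizer_singleton_iff]
        exact mem_centralizer_iff.1 hec x hx
      · intro x hx
        rw [mem_centralizer_singleton_iff]
        have h3 : x * e = e * x :=
          (mem_centralizer_iff.1 (Components.layer_le_centralizer_fitting he)) x hx
        have h4 : x * k = k * x := by
          have := hKp hk
          exact mem_centralizer_iff.1 this x (by rw [← hF]; exact hx)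
        have h5 : x * e⁻¹ = e⁻¹ * x := by
          rw [eq_inv_mul_iff_mul_eq, ← mul_assoc, ← h3, mul_assoc, mul_inv_cancel, mul_one]
        rw [← mul_assoc, h5, mul_assoc, h4, mul_assoc]
    rw [mem_centralizer_iff]
    intro x hx
    exact mem_centralizer_singleton_iff.1 (h2 hx)
  rw [← hK, commutator_le]
  intro a ha b hb
  obtain ⟨e, he, hec⟩ := h1 a ha
  obtain ⟨f, hf, hfc⟩ := h1 b hb
  set c := e⁻¹ * a with hc
  set d := f⁻¹ * b with hd
  have ea : a = e * c := by rw [hc]; group
  have eb : b = f * d := by rw [hd]; group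
  have heF : e ∈ generalizedFittingSubgroup X := GenFitting.layer_le_genFitting he
  have hfF : f ∈ generalizedFittingSubgroup X := GenFitting.layer_le_genFitting hf
  have hcF : c ∈ generalizedFittingSubgroup X := GenFitting.centralizer_genFitting_le hec
  have hce : e * c = c * e := mem_centralizer_iff.1 hec e heF
  have hcf : f * c = c * f := mem_centralizer_iff.1 hec f hfF
  have hdf : f * d = d * f := mem_centralizer_iff.1 hfc f hfF
  have hde : e * d = d * e := mem_centralizer_iff.1 hfc e heF
  have hdc : c * d = d * c := mem_centralizer_iff.1 hfc c hcF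
  have h6 : ⁅a, b⁆ = ⁅e, f⁆ := by
    rw [ea, eb, commutatorElement_def, commutatorElement_def]
    have c1 : Commute e c := hce
    have c2 : Commute f c := hcf
    have c3 : Commute f d := hdf
    have c4 : Commute e d := hde
    have c5 : Commute c d := hdc
    calc e * c * (f * d) * (e * c)⁻¹ * (f * d)⁻¹
        = e * (c * f) * d * (c⁻¹ * e⁻¹) * (d⁻¹ * f⁻¹) := by group
      _ = e * (f * c) * d * (e⁻¹ * c⁻¹) * (f⁻¹ * d⁻¹) := by
          rw [c2.eq, (c1.inv_inv.eq), (c3.inv_inv.eq)]
      _ = e * f * (c * d) * e⁻¹ * (c⁻¹ * f⁻¹) * d⁻¹ := by group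
      _ = e * f * (d * c) * e⁻¹ * (f⁻¹ * c⁻¹) * d⁻¹ := by
          rw [c5.eq, (c2.inv_inv.eq)]
      _ = e * f * d * (c * e⁻¹) * f⁻¹ * (c⁻¹ * d⁻¹) := by group
      _ = e * f * d * (e⁻¹ * c) * f⁻¹ * (d⁻¹ * c⁻¹) := by
          rw [(c1.inv_left.eq), (c5.inv_inv.eq)]
      _ = e * f * (d * e⁻¹) * (c * f⁻¹) * (d⁻¹ * c⁻¹) := by group
      _ = e * f * (e⁻¹ * d) * (f⁻¹ * c) * (d⁻¹ * c⁻¹) := by
          rw [(c4.inv_left.eq), (c2.inv_left.eq)]
      _ = e * f * e⁻¹ * (d * f⁻¹) * (c * d⁻¹) * c⁻¹ := by group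
      _ = e * f * e⁻¹ * (f⁻¹ * d) * (d⁻¹ * c) * c⁻¹ := by
          rw [(c3.inv_left.eq), (c5.inv_right.eq)]
      _ = e * f * e⁻¹ * f⁻¹ := by group
  rw [h6]
  have := Subgroup.commutator_mem_commutator he hf
  exact commutator_le_self (layer X) this

/-! ### The element fixed by `Q` -/

/-- Let `x ∈ L` commute with `Q ∩ N(L)`, `L` a component.  Then there is an element `y = x y'` of the layer commuting with
`Q`, where `y'` commutes with `L`, and `y` commutes with every component which is not `Q`-conjugate to `L`. -/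
theorem exists_diag [Finite X] (Q L : Subgroup X) (hL : IsComponent L) {x : X} (hx : x ∈ L)
    (hxQ : ∀ g ∈ Q, g ∈ normalizer (L : Set X) → g * x = x * g) :
    ∃ y ∈ layer X, y ∈ centralizer (Q : Set X) ∧ x⁻¹ * y ∈ centralizer (L : Set X) ∧
      ∀ M : Subgroup X, IsComponent M → (∀ g ∈ Q, L.map (MulAut.conj g).toMonoidHom ≠ M) →
        y ∈ centralizer (M : Set X) := by
  classical
  -- the conjugates of `x` under `Q`
  have hmem : ∀ g : X, g * x * g⁻¹ ∈ L.map (MulAut.conj g).toMonoidHom := fun g => ⟨x, hx, by simp⟩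
  have hcompg : ∀ g : X, IsComponent (L.map (MulAut.conj g).toMonoidHom) := fun g => Components.isComponent_conj g hL
  have heq : ∀ g ∈ Q, ∀ h ∈ Q, L.map (MulAut.conj g).toMonoidHom = L.map (MulAut.conj h).toMonoidHom →
      g * x * g⁻¹ = h * x * h⁻¹ := by
    intro g hg h hh he
    have h1 : L.map (MulAut.conj (h⁻¹ * g)).toMonoidHom = L := by
      rw [← map_conj_conj, he, map_conj_conj, inv_mul_cancel]
      ext z; simp only [_root_.map_one, _root_.MulEquiv.toMonoidHom_eq_coe, _root_.Subgroup.mem_map, _root_.MonoidHom.coe_coe, _root_.MulAut.one_apply, _root_.exists_eq_right]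
    have h2 := hxQ (h⁻¹ * g) (Q.mul_mem (Q.inv_mem hh) hg) (mem_normalizer_of_map_eq h1)
    calc g * x * g⁻¹ = h * (h⁻¹ * g * x) * g⁻¹ := by group
      _ = h * (x * (h⁻¹ * g)) * g⁻¹ := by rw [h2]
      _ = h * x * h⁻¹ := by group
  have hcomm : ∀ g ∈ Q, ∀ h ∈ Q, Commute (g * x * g⁻¹) (h * x * h⁻¹) := by
    intro g hg h hh
    by_cases he : L.map (MulAut.conj g).toMonoidHom = L.map (MulAut.conj h).toMonoidHom
    · rw [heq g hg h hh he]
    · exact ((mem_centralizer_iff.1 (Components.component_le_centralizer_of_ne (hcompg g) (hcompg h) he (hmem g)))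
        _ (hmem h)).symm
  let T : Finset X := (Set.toFinite {z : X | ∃ g ∈ Q, z = g * x * g⁻¹}).toFinset
  have hT : ∀ z, z ∈ T ↔ ∃ g ∈ Q, z = g * x * g⁻¹ := fun z => by simp only [T, _root_.Set.Finite.mem_toFinset, _root_.Set.mem_ofPred_eq]
  have hTc : ∀ a ∈ T, ∀ b ∈ T, Commute a b := by
    intro a ha b hb
    obtain ⟨g, hg, rfl⟩ := (hT a).1 ha
    obtain ⟨h, hh, rfl⟩ := (hT b).1 hb
    exact hcomm g hg h hh
  have hTc' : {z : X | z ∈ T.1}.Pairwise Commute := fun a ha b hb _ => hTc a ha b hb
  have hTf : (T : Set X).Pairwise (Function.onFun Commute id) := fun a ha b hb _ => hTc a ha b hb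
  have hxT : x ∈ T := (hT x).2 ⟨1, Q.one_mem, by simp⟩
  have hprod : T.noncommProd id hTf = T.1.noncommProd hTc' := by
    unfold Finset.noncommProd
    congr 1
    simp
  refine ⟨T.noncommProd id hTf, ?_, ?_, ?_, ?_⟩
  · refine Subgroup.noncommProd_mem _ _ fun z hz => ?_
    obtain ⟨g, hg, rfl⟩ := (hT z).1 hz
    exact Components.component_le_layer (hcompg g) (hmem g)
  · rw [mem_centralizer_iff]
    intro g hg
    have h1 : MulAut.conj g (T.1.noncommProd hTc') = T.1.noncommProd hTc' := by
      have hinj : Set.InjOn (MulAut.conj g) (T : Set X) := (MulAut.conj g).injective.injOn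
      have himg : T.image (MulAut.conj g) = T := by
        apply Finset.eq_of_subset_of_card_le
        · intro z hz
          obtain ⟨w, hw, rfl⟩ := Finset.mem_image.1 hz
          obtain ⟨h, hh, rfl⟩ := (hT w).1 hw
          exact (hT _).2 ⟨g * h, Q.mul_mem hg hh, by simp only [mul_assoc, _root_.MulAut.conj_apply, _root_.mul_inv_rev]⟩
        · rw [Finset.card_image_of_injOn hinj]
      have himg2 : T.1.map (MulAut.conj g) = T.1 := by
        rw [← Finset.image_val_of_injOn hinj, himg]
      rw [Multiset.map_noncommProd]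
      congr 1
    rw [hprod]
    have h2 : g * T.1.noncommProd hTc' * g⁻¹ = T.1.noncommProd hTc' := h1
    rwa [mul_inv_eq_iff_eq_mul] at h2
  · rw [← Finset.mul_noncommProd_erase T hxT id hTf, id, ← mul_assoc, inv_mul_cancel, one_mul, mem_centralizer_iff]
    intro l hl
    refine Finset.noncommProd_commute _ _ _ _ fun z hz => ?_
    obtain ⟨hzx, hzT⟩ := Finset.mem_erase.1 hz
    obtain ⟨g, hg, rfl⟩ := (hT z).1 hzT
    have hne : L.map (MulAut.conj g).toMonoidHom ≠ L := by
      intro he
      apply hzx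
      have := heq g hg 1 Q.one_mem (by rw [he]; ext z; simp only [_root_.map_one, _root_.MulEquiv.toMonoidHom_eq_coe, _root_.Subgroup.mem_map, _root_.MonoidHom.coe_coe, _root_.MulAut.one_apply, _root_.exists_eq_right])
      simpa only [_root_.one_mul, _root_.inv_one, _root_.mul_one] using this
    exact (mem_centralizer_iff.1 (Components.component_le_centralizer_of_ne (hcompg g) hL hne (hmem g))) l hl
  · intro M hM hMg
    rw [mem_centralizer_iff]
    intro m hm
    refine Finset.noncommProd_commute _ _ _ _ fun z hz => ?_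
    obtain ⟨g, hg, rfl⟩ := (hT z).1 hz
    exact (mem_centralizer_iff.1 (Components.component_le_centralizer_of_ne (hcompg g) hM (hMg g hg) (hmem g))) m hm

/-- A component of `C` lies in a subgroup normal in `C` or centralises it. -/
theorem comp_or {K C H : Subgroup X} (hK : IsComponentOf K C) (hHC : H ≤ C) (hn : C ≤ normalizer (H : Set X)) :
    K ≤ H ∨ K ≤ centralizer (H : Set X) := by
  have h1 : (H.subgroupOf C).Normal := normal_subgroupOf_of_le_normalizer hn
  rcases Components.component_le_or_commutator_eq_bot hK.2 h1.isSubnormal with h | h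
  · left
    intro k hk
    exact h (x := (⟨k, hK.1 hk⟩ : C)) hk
  · right
    rw [← commutator_eq_bot_iff_le_centralizer]
    have h2 : (⁅K.subgroupOf C, H.subgroupOf C⁆).map C.subtype = ⊥ := by rw [h, Subgroup.map_bot]
    rwa [Subgroup.map_commutator, subgroupOf_map_subtype, subgroupOf_map_subtype, inf_eq_left.2 hK.1,
      inf_eq_left.2 hHC] at h2

theorem comp_perfect {K C : Subgroup X} (hK : IsComponentOf K C) : ⁅K, K⁆ = K := by
  have h := Components.component_commutator_self hK.2
  have h2 : (⁅K.subgroupOf C, K.subgroupOf C⁆).map C.subtype = (K.subgroupOf C).map C.subtype := by rw [h]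
  rwa [Subgroup.map_commutator, subgroupOf_map_subtype, inf_eq_left.2 hK.1] at h2

theorem comp_ne_bot {K C : Subgroup X} (hK : IsComponentOf K C) : K ≠ ⊥ := by
  rintro rfl
  exact Components.component_ne_bot hK.2 (by simp only [_root_.Subgroup.bot_subgroupOf])

/-- A perfect group all of whose elements have a `q`-power in a normal subgroup is that subgroup. -/
theorem eq_top_of_perfect_pow {A : Type*} [Group A] [Finite A] (q : ℕ) [Fact q.Prime] (hA : Group.IsPerfect A)
    (N : Subgroup A) (hN : N.Normal) (h : ∀ a : A, ∃ n : ℕ, a ^ q ^ n ∈ N) : N = ⊤ := by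
  have h1 : IsPGroup q (A ⧸ N) := by
    intro a
    induction a using QuotientGroup.induction_on with
    | H a =>
      obtain ⟨n, hn⟩ := h a
      exact ⟨n, by rw [← QuotientGroup.mk_pow, QuotientGroup.eq_one_iff]; exact hn⟩
  have h2 : Group.IsNilpotent (A ⧸ N) := h1.isNilpotent
  have h3 : Group.IsPerfect (A ⧸ N) :=
    Group.IsPerfect.ofSurjective (f := QuotientGroup.mk' N) (QuotientGroup.mk'_surjective _)
  by_contra hne
  have h4 : Nontrivial (A ⧸ N) := QuotientGroup.nontrivial_iff.2 hne
  exact Group.IsPerfect.not_isSolvable (A ⧸ N) inferInstance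

/-- **Case (a)**: an element of the component `L`, not centralising `L` but fixed by `N_Q(L)`. -/
theorem normalizes_of_fixed [Finite X] {q : ℕ} [Fact q.Prime] (Q : Subgroup X) (hQ : IsPGroup q Q) (K : Subgroup X)
    (hK : ⁅K, K⁆ = K) (hKQ : K ≤ centralizer (Q : Set X))
    (hKE : K ≤ centralizer ((layer X ⊓ centralizer (Q : Set X) : Subgroup X) : Set X))
    (L : Subgroup X) (hL : IsComponent L) {x : X} (hx : x ∈ L) (hxL : x ∉ centralizer (L : Set X))
    (hxQ : ∀ g ∈ Q, g ∈ normalizer (L : Set X) → g * x = x * g) : K ≤ normalizer (L : Set X) := by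
  obtain ⟨y, hyE, hyQ, hyL, hyM⟩ := exists_diag Q L hL hx hxQ
  have hKy : ∀ k ∈ K, y * k = k * y := fun k hk => mem_centralizer_iff.1 (hKE hk) y ⟨hyE, hyQ⟩
  have hyL' : y ∉ centralizer (L : Set X) := by
    intro h
    apply hxL
    have h1 := Subgroup.mul_mem _ h (Subgroup.inv_mem _ hyL)
    have h2 : y * (x⁻¹ * y)⁻¹ = x := by group
    rwa [h2] at h1
  have hKg : ∀ k ∈ K, ∃ g ∈ Q, L.map (MulAut.conj g).toMonoidHom = L.map (MulAut.conj k).toMonoidHom := by
    intro k hk
    by_contra hcon
    push Not at hcon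
    have h1 := hyM _ (Components.isComponent_conj k hL) hcon
    apply hyL'
    rw [mem_centralizer_iff] at h1 ⊢
    intro l hl
    have h2 := h1 (k * l * k⁻¹) ⟨l, hl, by simp⟩
    have h3 : Commute y k := hKy k hk
    calc l * y = k⁻¹ * (k * l * k⁻¹ * (k * y * k⁻¹)) * k := by group
      _ = k⁻¹ * (k * l * k⁻¹ * y) * k := by rw [← h3.eq]; group
      _ = k⁻¹ * (y * (k * l * k⁻¹)) * k := by rw [h2]
      _ = (k⁻¹ * y) * k * l := by group
      _ = (y * k⁻¹) * k * l := by rw [(h3.inv_right.eq)]
      _ = y * l := by group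
  have hcomm : ∀ k ∈ K, ∀ g ∈ Q, g * k = k * g := fun k hk g hg => mem_centralizer_iff.1 (hKQ hk) g hg
  -- the normaliser of `L` in `K`
  have hnorm : ((normalizer (L : Set X)).subgroupOf K).Normal := by
    constructor
    intro n hn k
    rw [mem_subgroupOf] at hn ⊢
    obtain ⟨g, hg, hgk⟩ := hKg k k.2
    set m : X := ((k * n * k⁻¹ : K) : X) with hm
    have hmK : m ∈ K := (k * n * k⁻¹ : K).2
    have h1 : (L.map (MulAut.conj (k : X)).toMonoidHom).map (MulAut.conj m).toMonoidHom =
        L.map (MulAut.conj (k : X)).toMonoidHom := by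
      rw [map_conj_conj]
      have : m * (k : X) = (k : X) * n := by simp only [hm, _root_.Subgroup.coe_mul, _root_.InvMemClass.coe_inv, _root_.inv_mul_cancel_right]
      rw [this, ← map_conj_conj, map_conj_eq hn]
    rw [← hgk, map_conj_conj] at h1
    apply mem_normalizer_of_map_eq
    have h2 : L.map (MulAut.conj m).toMonoidHom =
        (L.map (MulAut.conj (m * g)).toMonoidHom).map (MulAut.conj g⁻¹).toMonoidHom := by
      rw [map_conj_conj]
      congr 3
      have := hcomm m hmK g hg
      rw [← this]; group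
    rw [h2, h1, map_conj_conj, inv_mul_cancel]
    ext z; simp only [_root_.map_one, _root_.MulEquiv.toMonoidHom_eq_coe, _root_.Subgroup.mem_map, _root_.MonoidHom.coe_coe, _root_.MulAut.one_apply, _root_.exists_eq_right]
  have hpow : ∀ k : K, ∃ n : ℕ, k ^ q ^ n ∈ (normalizer (L : Set X)).subgroupOf K := by
    intro k
    obtain ⟨g, hg, hgk⟩ := hKg k k.2
    obtain ⟨n, hn⟩ := hQ ⟨g, hg⟩
    refine ⟨n, ?_⟩
    rw [mem_subgroupOf]
    apply mem_normalizer_of_map_eq
    have h1 : ∀ m : ℕ, L.map (MulAut.conj ((k : X) ^ m)).toMonoidHom = L.map (MulAut.conj (g ^ m)).toMonoidHom := by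
      intro m
      induction m with
      | zero => simp
      | succ m ih =>
        have h3 : Commute g (k : X) := hcomm k k.2 g hg
        calc L.map (MulAut.conj ((k : X) ^ (m + 1))).toMonoidHom
            = (L.map (MulAut.conj ((k : X) ^ m)).toMonoidHom).map (MulAut.conj (k : X)).toMonoidHom := by
              rw [map_conj_conj, pow_succ']
          _ = L.map (MulAut.conj ((k : X) * g ^ m)).toMonoidHom := by rw [ih, map_conj_conj]
          _ = L.map (MulAut.conj (g ^ m * (k : X))).toMonoidHom := by rw [(h3.pow_left m).eq]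
          _ = (L.map (MulAut.conj (k : X)).toMonoidHom).map (MulAut.conj (g ^ m)).toMonoidHom := by
              rw [map_conj_conj]
          _ = L.map (MulAut.conj (g ^ (m + 1))).toMonoidHom := by rw [← hgk, map_conj_conj, pow_succ]
    have h2 : g ^ q ^ n = 1 := congrArg Subtype.val hn
    rw [SubmonoidClass.coe_pow, h1, h2]
    ext z; simp
  have hKp : Group.IsPerfect K := by rw [Subgroup.isPerfect_iff]; exact hK
  have h5 := eq_top_of_perfect_pow q hKp _ hnorm hpow
  exact subgroupOf_eq_top.1 h5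

/-! ### Case (b): `N_Q(L)` has no fixed points on `L` outside the centre -/

theorem comp_pPrimeCore_eq_bot [Finite X] {p : ℕ} (hO : pPrimeCore p X = ⊥) {L : Subgroup X} (hL : L.IsSubnormal) :
    pPrimeCore p L = ⊥ := by
  have h := CompBasic.map_subtype_pPrimeCore_of_subnormal p hL
  rw [hO, inf_bot_eq, Subgroup.map_eq_bot_iff_of_injective _ L.subtype_injective] at h
  exact h

theorem center_isPGroup [Finite X] {p : ℕ} [Fact p.Prime] (hO : pPrimeCore p X = ⊥) {L : Subgroup X}
    (hL : L.IsSubnormal) : IsPGroup p (Subgroup.center L) := by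
  have h1 := comp_pPrimeCore_eq_bot hO hL
  have h0 : Group.IsNilpotent (Subgroup.center L) :=
    ⟨1, by
      rw [eq_top_iff]
      intro x _
      rw [Subgroup.upperCentralSeries_one, Subgroup.mem_center_iff]
      intro g
      exact Subtype.ext (Subgroup.mem_center_iff.1 x.2 g)⟩
  have h2 : Subgroup.center L ≤ fittingSubgroup L := Cores.le_fittingSubgroup inferInstance h0
  rw [PConstrained.fittingSubgroup_eq_pCore_of_pPrimeCore_eq_bot p h1] at h2
  exact (Cores.pCore_isPGroup p).to_le h2

theorem dvd_card_comp [Finite X] {p : ℕ} [hp : Fact p.Prime] (hO : pPrimeCore p X = ⊥) {L : Subgroup X}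
    (hL : IsComponent L) : p ∣ Nat.card L := by
  by_contra h
  have h1 : (Nat.card L).Coprime p := by
    rw [Nat.coprime_comm, Nat.Prime.coprime_iff_not_dvd hp.out]; exact h
  have h2 := CompBasic.subnormal_coprime_le_pPrimeCore hL.1 h1
  rw [hO, le_bot_iff] at h2
  exact Components.component_ne_bot hL h2

/-- fixed points of a `q`-group normalising `L` -/
theorem dvd_fixed [Finite X] {q : ℕ} [Fact q.Prime] (Q L : Subgroup X) (hQ : IsPGroup q Q)
    (hQL : Q ≤ normalizer (L : Set X)) (hq : q ∣ Nat.card L) :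
    q ∣ Nat.card (L ⊓ centralizer (Q : Set X) : Subgroup X) := by
  let _ : MulAction Q L := MulAction.compHom L ((L.normalizerMonoidHom).comp (inclusion hQL))
  have h1 := hQ.card_modEq_card_fixedPoints L
  have h2 : Nat.card (MulAction.fixedPoints Q L) = Nat.card (L ⊓ centralizer (Q : Set X) : Subgroup X) := by
    refine Nat.card_congr
      { toFun := fun x => ⟨x.1.1, x.1.2, ?_⟩
        invFun := fun x => ⟨⟨x.1, x.2.1⟩, ?_⟩
        left_inv := fun x => rfl
        right_inv := fun x => rfl }
    · intro g hg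
      have h3 := congrArg Subtype.val (x.2 ⟨g, hg⟩)
      change g * (x.1 : X) * g⁻¹ = (x.1 : X) at h3
      rwa [mul_inv_eq_iff_eq_mul] at h3
    · rintro ⟨g, hg⟩
      apply Subtype.ext
      change g * (x : X) * g⁻¹ = (x : X)
      rw [mul_inv_eq_iff_eq_mul]
      exact mem_centralizer_iff.1 x.2.2 g hg
  rw [← h2]
  exact (h1.dvd_iff (dvd_refl q)).1 hq

theorem exists_R [Finite X] {p q : ℕ} [hp : Fact p.Prime] [hq : Fact q.Prime] (hpq : p ≠ q)
    (hO : pPrimeCore p X = ⊥) (Q : Subgroup X) (hQ : IsPGroup q Q) (K : Subgroup X)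
    (hKQ : K ≤ centralizer (Q : Set X)) (L : Subgroup X) (hL : IsComponent L)
    (hfix : ∀ x ∈ L, (∀ g ∈ Q, g ∈ normalizer (L : Set X) → g * x = x * g) → x ∈ centralizer (L : Set X))
    (hKL : ¬ K ≤ normalizer (L : Set X)) :
    ∃ R : Subgroup X, IsPGroup p R ∧ Q ≤ normalizer (R : Set X) ∧ K ≤ normalizer (R : Set X) ∧ ⁅K, R⁆ ≠ ⊥ := by
  have hcL : ∀ x ∈ L, x ∈ centralizer (L : Set X) → ∀ h : x ∈ L, (⟨x, h⟩ : L) ∈ Subgroup.center L := by
    intro x _ hxc h
    rw [Subgroup.mem_center_iff]
    intro g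
    exact Subtype.ext (mem_centralizer_iff.1 hxc g g.2)
  set Q0 : Subgroup X := Q ⊓ normalizer (L : Set X) with hQ0
  have hQ0p : IsPGroup q Q0 := hQ.to_le inf_le_left
  have hQ0L : Q0 ≤ normalizer (L : Set X) := inf_le_right
  have hfix' : ∀ x ∈ L ⊓ centralizer (Q0 : Set X), x ∈ centralizer (L : Set X) := by
    rintro x ⟨hx, hxc⟩
    exact hfix x hx fun g hg hgL => mem_centralizer_iff.1 hxc g ⟨hg, hgL⟩
  -- `q` does not divide `|L|`
  have hqL : ¬ q ∣ Nat.card L := by
    intro h
    have h1 := dvd_fixed Q0 L hQ0p hQ0L h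
    have h2 : Nat.card (L ⊓ centralizer (Q0 : Set X) : Subgroup X) ∣ Nat.card (Subgroup.center L) := by
      have h3 : (L ⊓ centralizer (Q0 : Set X) : Subgroup X) ≤ (Subgroup.center L).map L.subtype := by
        intro x hx
        exact ⟨⟨x, hx.1⟩, hcL x hx.1 (hfix' x hx) hx.1, rfl⟩
      have h4 := Subgroup.card_dvd_of_le h3
      rwa [Subgroup.card_map_of_injective L.subtype_injective] at h4
    obtain ⟨n, hn⟩ := (center_isPGroup hO hL.1).exists_card_eq
    have h5 := h1.trans h2
    rw [hn] at h5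
    exact hpq ((Nat.prime_dvd_prime_iff_eq hq.out hp.out).1 (hq.out.dvd_of_dvd_pow h5)).symm
  have hcop : (Nat.card Q0).Coprime (Nat.card L) := by
    obtain ⟨n, hn⟩ := hQ0p.exists_card_eq
    rw [hn]
    exact Nat.Coprime.pow_left _ ((Nat.Prime.coprime_iff_not_dvd hq.out).2 hqL)
  have hsol : Group.IsSolvable Q0 := by
    have := hQ0p.isNilpotent
    infer_instance
  obtain ⟨P, hP⟩ := S0023.result Q0 L hQ0L hcop (Or.inl hsol) p
  have huniq : ∀ P' : Sylow p L, Q0 ≤ normalizer ((P' : Subgroup L).map L.subtype : Set X) → P' = P := by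
    intro P' hP'
    obtain ⟨c, hc, hcP⟩ := S0024.result Q0 L hQ0L hcop (Or.inl hsol) p P P' hP hP'
    have h1 : (c : X) ∈ centralizer (L : Set X) := hfix' c ⟨c.2, hc⟩
    rw [← hcP]
    apply Sylow.ext
    ext x
    change x ∈ MulAut.conj c • (P : Subgroup L) ↔ x ∈ (P : Subgroup L)
    rw [Subgroup.mem_pointwise_smul_iff_inv_smul_mem]
    have h2 : (MulAut.conj c)⁻¹ • x = x := by
      rw [← map_inv]
      apply Subtype.ext
      change (c : X)⁻¹ * (x : X) * ((c : X)⁻¹)⁻¹ = x
      rw [inv_inv, mul_assoc, mem_centralizer_iff.1 h1 x x.2, inv_mul_cancel_left]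
    rw [h2]
  set P0 : Subgroup X := (P : Subgroup L).map L.subtype with hP0
  have hP0L : P0 ≤ L := Subgroup.map_subtype_le _
  have hP0p : IsPGroup p P0 := P.2.map _
  -- the stabiliser of `L` in `QK` normalises `P0`
  have hstab : ∀ h : X, (∀ x, x ∈ Q ↔ h * x * h⁻¹ ∈ Q) → L.map (MulAut.conj h).toMonoidHom = L →
      P0.map (MulAut.conj h).toMonoidHom = P0 := by
    intro h hhQ hhL
    have hle : P0.map (MulAut.conj h).toMonoidHom ≤ L := by
      rw [← hhL]; exact Subgroup.map_mono hP0L
    have hcard : Nat.card ((P0.map (MulAut.conj h).toMonoidHom).subgroupOf L) = Nat.card P := by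
      rw [Nat.card_congr (Subgroup.subgroupOfEquivOfLe hle).toEquiv,
        Subgroup.card_map_of_injective (MulAut.conj h).injective, hP0,
        Subgroup.card_map_of_injective L.subtype_injective]
    let P' : Sylow p L := Sylow.ofCard ((P0.map (MulAut.conj h).toMonoidHom).subgroupOf L)
      (by rw [hcard]; exact P.card_eq_multiplicity)
    have h1 : (P' : Subgroup L).map L.subtype = P0.map (MulAut.conj h).toMonoidHom := by
      change (((P0.map (MulAut.conj h).toMonoidHom).subgroupOf L)).map L.subtype = _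
      rw [Subgroup.subgroupOf_map_subtype]
      exact inf_eq_left.mpr hle
    have h2 : P' = P := by
      apply huniq
      rw [h1]
      intro g hg
      apply mem_normalizer_of_map_eq
      -- `h⁻¹ g h ∈ Q0`
      have h3 : h⁻¹ * g * h ∈ Q0 := by
        refine ⟨?_, ?_⟩
        · have h6 : h⁻¹ * g * h ∈ Q := by
            rw [hhQ]
            have : h * (h⁻¹ * g * h) * h⁻¹ = g := by group
            rw [this]; exact hg.1
          exact h6
        · have h4 : h ∈ normalizer (L : Set X) := mem_normalizer_of_map_eq hhL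
          exact Subgroup.mul_mem _ (Subgroup.mul_mem _ (Subgroup.inv_mem _ h4) hg.2) h4
      rw [map_conj_conj]
      have h5 : g * h = h * (h⁻¹ * g * h) := by group
      rw [h5, ← map_conj_conj, map_conj_eq (hP h3)]
    rw [← h1, h2]
  set H : Subgroup X := Q ⊔ K with hH
  have hHQ : ∀ h ∈ H, ∀ x, x ∈ Q ↔ h * x * h⁻¹ ∈ Q := by
    have h1 : H ≤ normalizer (Q : Set X) :=
      sup_le le_normalizer (hKQ.trans (centralizer_le_normalizer _))
    intro h hh x
    exact mem_normalizer_iff.1 (h1 hh) x
  have hcomp : ∀ h : X, IsComponent (L.map (MulAut.conj h).toMonoidHom) := fun h => Components.isComponent_conj h hL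
  have hnn : ∀ h ∈ H, ∀ h' ∈ H, P0.map (MulAut.conj h).toMonoidHom ≤
      normalizer ((P0.map (MulAut.conj h').toMonoidHom : Subgroup X) : Set X) := by
    intro h hh h' hh'
    by_cases he : L.map (MulAut.conj h).toMonoidHom = L.map (MulAut.conj h').toMonoidHom
    · have h1 : L.map (MulAut.conj (h'⁻¹ * h)).toMonoidHom = L := by
        rw [← map_conj_conj, he, map_conj_conj, inv_mul_cancel]
        ext z; simp only [_root_.map_one, _root_.MulEquiv.toMonoidHom_eq_coe, _root_.Subgroup.mem_map, _root_.MonoidHom.coe_coe, _root_.MulAut.one_apply, _root_.exists_eq_right]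
      have h2 := hstab (h'⁻¹ * h) (hHQ _ (H.mul_mem (H.inv_mem hh') hh)) h1
      have h3 : P0.map (MulAut.conj h).toMonoidHom = P0.map (MulAut.conj h').toMonoidHom := by
        calc P0.map (MulAut.conj h).toMonoidHom = P0.map (MulAut.conj (h' * (h'⁻¹ * h))).toMonoidHom := by
              rw [mul_inv_cancel_left]
          _ = P0.map (MulAut.conj h').toMonoidHom := by rw [← map_conj_conj, h2]
      rw [h3]
      exact le_normalizer
    · have h1 := Components.component_le_centralizer_of_ne (hcomp h) (hcomp h') he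
      refine le_trans (le_trans (Subgroup.map_mono hP0L) h1) ?_
      exact le_trans (centralizer_le (Subgroup.map_mono (f := (MulAut.conj h').toMonoidHom) hP0L))
        (centralizer_le_normalizer _)
  let R : Subgroup X := ⨆ h : H, P0.map (MulAut.conj (h : X)).toMonoidHom
  have hRle : ∀ h ∈ H, P0.map (MulAut.conj h).toMonoidHom ≤ R := fun h hh =>
    le_iSup (fun h : H => P0.map (MulAut.conj (h : X)).toMonoidHom) ⟨h, hh⟩
  have hRn : ∀ h ∈ H, R ≤ normalizer ((P0.map (MulAut.conj h).toMonoidHom : Subgroup X) : Set X) := fun h hh =>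
    iSup_le fun g => hnn g g.2 h hh
  have hRp : IsPGroup p R := by
    have h1 : ∀ h ∈ H, (P0.map (MulAut.conj h).toMonoidHom).subgroupOf R ≤ pCore p R := by
      intro h hh
      have h2 : ((P0.map (MulAut.conj h).toMonoidHom).subgroupOf R).Normal :=
        normal_subgroupOf_of_le_normalizer (hRn h hh)
      exact Cores.le_pCore h2 (IsPGroup.of_equiv (hP0p.map _) (Subgroup.subgroupOfEquivOfLe (hRle h hh)).symm)
    have h3 : R ≤ (pCore p R).map R.subtype := by
      refine iSup_le fun h => ?_
      have h4 := Subgroup.map_mono (f := R.subtype) (h1 h h.2)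
      rwa [subgroupOf_map_subtype, inf_eq_left.2 (hRle h h.2)] at h4
    exact ((Cores.pCore_isPGroup p).map R.subtype).to_le h3
  have hHR : H ≤ normalizer (R : Set X) := by
    intro g hg
    apply mem_normalizer_of_map_eq
    have hle : ∀ g ∈ H, R.map (MulAut.conj g).toMonoidHom ≤ R := by
      intro g hg
      change (⨆ h : H, P0.map (MulAut.conj (h : X)).toMonoidHom).map (MulAut.conj g).toMonoidHom ≤ R
      rw [Subgroup.map_iSup]
      refine iSup_le fun h => ?_
      rw [map_conj_conj]
      exact hRle _ (H.mul_mem hg h.2)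
    apply le_antisymm (hle g hg)
    have h1 := Subgroup.map_mono (f := (MulAut.conj g).toMonoidHom) (hle g⁻¹ (H.inv_mem hg))
    rw [map_conj_conj, mul_inv_cancel] at h1
    have h2 : R.map (MulAut.conj (1 : X)).toMonoidHom = R := by ext z; simp only [_root_.map_one, _root_.MulEquiv.toMonoidHom_eq_coe, _root_.Subgroup.mem_map, _root_.MonoidHom.coe_coe, _root_.MulAut.one_apply, _root_.exists_eq_right]
    rwa [h2] at h1
  refine ⟨R, hRp, le_sup_left.trans hHR, le_sup_right.trans hHR, ?_⟩
  intro hKR
  apply hKL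
  intro k hk
  by_contra hkL
  have hne : L.map (MulAut.conj k).toMonoidHom ≠ L := fun h => hkL (mem_normalizer_of_map_eq h)
  have h1 : P0 ≤ R := by
    have := hRle 1 H.one_mem
    have h2 : P0.map (MulAut.conj (1 : X)).toMonoidHom = P0 := by ext z; simp
    rwa [h2] at this
  have h2 : K ≤ centralizer (R : Set X) := commutator_eq_bot_iff_le_centralizer.1 hKR
  refine CompBasic.sylow_not_le_center_of_perfect hL.2.1 p (dvd_card_comp hO hL) P ?_
  intro x hx
  have hxP : (x : X) ∈ P0 := ⟨x, hx, rfl⟩
  refine hcL x x.2 ?_ x.2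
  have h3 : (x : X) * k = k * x := mem_centralizer_iff.1 (h2 hk) x (h1 hxP)
  have h4 : (x : X) ∈ L.map (MulAut.conj k).toMonoidHom := by
    rw [mem_map_conj, mul_assoc, h3, inv_mul_cancel_left]
    exact x.2
  exact Components.component_le_centralizer_of_ne (hcomp k) hL hne h4

/-! ### Transitivity -/

theorem isComponentOf_mono {K D C : Subgroup X} (hKD : K ≤ D) (hDC : D ≤ C) (hK : IsComponentOf K C) :
    IsComponentOf K D := by
  refine ⟨hKD, ?_, ?_⟩
  · have h1 : K.subgroupOf D = (K.subgroupOf C).comap (inclusion hDC) := rfl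
    rw [h1]
    exact hK.2.1.comap _
  · exact Components.isQuasisimple_of_mulEquiv
      ((subgroupOfEquivOfLe hK.1).trans (subgroupOfEquivOfLe hKD).symm) hK.2.2

theorem transitive [Finite X] {p q : ℕ} [hp : Fact p.Prime] [hq : Fact q.Prime] (hpq : p ≠ q)
    (hO : pPrimeCore p X = ⊥) (Q : Subgroup X) (hQ : IsPGroup q Q) (K : Subgroup X)
    (hK : IsComponentOf K (centralizer (Q : Set X))) (hKE : K ≤ layer X) (L₁ L₂ : Subgroup X)
    (h₁ : IsComponent L₁) (h₂ : IsComponent L₂) (hK₁ : ¬ K ≤ centralizer (L₁ : Set X))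
    (hK₂ : ¬ K ≤ centralizer (L₂ : Set X)) : ∃ g ∈ Q, L₁.map (MulAut.conj g).toMonoidHom = L₂ := by
  by_contra hcon
  set S1 : Set (Subgroup X) := {M | ∃ g ∈ Q, L₁.map (MulAut.conj g).toMonoidHom = M} with hS1
  set S2 : Set (Subgroup X) := {M | IsComponent M ∧ ¬ ∃ g ∈ Q, L₁.map (MulAut.conj g).toMonoidHom = M} with hS2
  have hS1c : ∀ M ∈ S1, IsComponent M := by
    rintro M ⟨g, _, rfl⟩
    exact Components.isComponent_conj g h₁
  set E1 : Subgroup X := sSup S1 with hE1
  set E2 : Subgroup X := sSup S2 with hE2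
  have hL1 : L₁ ≤ E1 := le_sSup ⟨1, Q.one_mem, by ext z; simp only [_root_.map_one, _root_.MulEquiv.toMonoidHom_eq_coe, _root_.Subgroup.mem_map, _root_.MonoidHom.coe_coe, _root_.MulAut.one_apply, _root_.exists_eq_right]⟩
  have hL2 : L₂ ≤ E2 := le_sSup ⟨h₂, hcon⟩
  have hE : layer X ≤ E1 ⊔ E2 := by
    refine sSup_le fun M hM => ?_
    by_cases h : ∃ g ∈ Q, L₁.map (MulAut.conj g).toMonoidHom = M
    · exact le_trans (le_sSup h) le_sup_left
    · exact le_trans (le_sSup (show M ∈ S2 from ⟨hM, h⟩)) le_sup_right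
  have hE1E : E1 ≤ layer X := sSup_le fun M hM => Components.component_le_layer (hS1c M hM)
  have hE2E : E2 ≤ layer X := sSup_le fun M hM => Components.component_le_layer hM.1
  have hE12 : E1 ≤ centralizer (E2 : Set X) := by
    refine sSup_le fun M hM => ?_
    rw [← commutator_eq_bot_iff_le_centralizer, commutator_comm, commutator_eq_bot_iff_le_centralizer]
    refine sSup_le fun M' hM' => ?_
    refine Components.component_le_centralizer_of_ne hM'.1 (hS1c M hM) ?_
    rintro rfl
    exact hM'.2 hM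
  have hE21 : E2 ≤ centralizer (E1 : Set X) := by
    rw [← commutator_eq_bot_iff_le_centralizer, commutator_comm, commutator_eq_bot_iff_le_centralizer]
    exact hE12
  -- the intersection is central in the layer
  have hcard : ¬ q ∣ Nat.card (E1 ⊓ E2 : Subgroup X) := by
    intro h
    have h3 : (E1 ⊓ E2 : Subgroup X) ≤ (Subgroup.center (layer X)).map (layer X).subtype := by
      rintro x ⟨hx1, hx2⟩
      refine ⟨⟨x, hE1E hx1⟩, ?_, rfl⟩
      rw [SetLike.mem_coe, Subgroup.mem_center_iff]
      rintro ⟨g, hg⟩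
      apply Subtype.ext
      have h4 : E1 ⊔ E2 ≤ centralizer ({x} : Set X) := by
        refine sup_le (fun y hy => ?_) (fun y hy => ?_)
        · rw [mem_centralizer_singleton_iff]
          exact (mem_centralizer_iff.1 (hE21 hx2) y hy)
        · rw [mem_centralizer_singleton_iff]
          exact (mem_centralizer_iff.1 (hE12 hx1) y hy)
      exact mem_centralizer_singleton_iff.1 (h4 (hE hg))
    have h4 := Subgroup.card_dvd_of_le h3
    rw [Subgroup.card_map_of_injective (layer X).subtype_injective] at h4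
    obtain ⟨n, hn⟩ := (center_isPGroup hO (Components.layer_normal X).isSubnormal).exists_card_eq
    have h5 := h.trans h4
    rw [hn] at h5
    exact hpq ((Nat.prime_dvd_prime_iff_eq hq.out hp.out).1 (hq.out.dvd_of_dvd_pow h5)).symm
  -- invariance under `Q`
  have hinv1 : ∀ a ∈ Q, ∀ x ∈ E1, a * x * a⁻¹ ∈ E1 := by
    intro a ha
    have : E1 ≤ E1.comap (MulAut.conj a).toMonoidHom := by
      refine sSup_le fun M hM => ?_
      obtain ⟨g, hg, rfl⟩ := hM
      rw [← Subgroup.map_le_iff_le_comap, map_conj_conj]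
      exact le_sSup (show _ ∈ S1 from ⟨a * g, Q.mul_mem ha hg, rfl⟩)
    intro x hx
    exact this hx
  have hinv2 : ∀ a ∈ Q, ∀ x ∈ E2, a * x * a⁻¹ ∈ E2 := by
    intro a ha
    have : E2 ≤ E2.comap (MulAut.conj a).toMonoidHom := by
      refine sSup_le fun M hM => ?_
      obtain ⟨hM, hMn⟩ := hM
      rw [← Subgroup.map_le_iff_le_comap]
      refine le_sSup (show _ ∈ S2 from ⟨Components.isComponent_conj a hM, ?_⟩)
      rintro ⟨g, hg, hgM⟩
      apply hMn
      refine ⟨a⁻¹ * g, Q.mul_mem (Q.inv_mem ha) hg, ?_⟩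
      rw [← map_conj_conj, hgM, map_conj_conj, inv_mul_cancel]
      ext z; simp only [_root_.map_one, _root_.MulEquiv.toMonoidHom_eq_coe, _root_.Subgroup.mem_map, _root_.MonoidHom.coe_coe, _root_.MulAut.one_apply, _root_.exists_eq_right]
    intro x hx
    exact this hx
  have hn12 : E2 ≤ normalizer (E1 : Set X) := hE21.trans (centralizer_le_normalizer _)
  set D : Subgroup X := layer X ⊓ centralizer (Q : Set X) with hD
  have hKD : K ≤ D := le_inf hKE hK.1
  have hKD' := isComponentOf_mono hKD inf_le_right hK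
  have hD12 : D ≤ (E1 ⊓ centralizer (Q : Set X)) ⊔ (E2 ⊓ centralizer (Q : Set X)) := by
    rintro d ⟨hd, hdQ⟩
    obtain ⟨x, hx, y, hy, hxy, hxQ, hyQ⟩ := CoprimeBasic.exists_factorization_of_centralizing hn12 Q hQ hinv1 hinv2
      hcard d (hE hd) (fun a ha => mem_centralizer_iff.1 hdQ a ha)
    rw [← hyQ]
    exact Subgroup.mul_mem _ (le_sup_left (a := E1 ⊓ centralizer (Q : Set X)) ⟨hx, mem_centralizer_iff.2 hxy⟩)
      (le_sup_right (a := E1 ⊓ centralizer (Q : Set X)) ⟨hy, mem_centralizer_iff.2 hxQ⟩)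
  have hDn : ∀ S : Set (Subgroup X), (∀ M ∈ S, IsComponent M) →
      D ≤ normalizer ((sSup S ⊓ centralizer (Q : Set X) : Subgroup X) : Set X) := by
    intro S hS
    have h1 : layer X ≤ normalizer ((sSup S : Subgroup X) : Set X) := by
      intro g hg
      have h2 : ∀ g ∈ layer X, ∀ x ∈ sSup S, g * x * g⁻¹ ∈ sSup S := by
        intro g hg
        have : sSup S ≤ (sSup S).comap (MulAut.conj g).toMonoidHom := by
          refine sSup_le fun M hM => ?_
          rw [← Subgroup.map_le_iff_le_comap, map_conj_eq (Components.layer_le_normalizer_component (hS M hM) hg)]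
          exact le_sSup hM
        intro x hx
        exact this hx
      rw [mem_normalizer_iff]
      refine fun x => ⟨h2 g hg x, fun hx => ?_⟩
      have := h2 g⁻¹ ((layer X).inv_mem hg) _ hx
      simpa [mul_assoc] using this
    intro d hd
    rw [mem_normalizer_iff]
    intro x
    have h3 := mem_normalizer_iff.1 (h1 hd.1) x
    have h4 := mem_normalizer_iff.1 (le_normalizer (H := centralizer (Q : Set X)) hd.2) x
    exact and_congr h3 h4
  rcases comp_or hKD' (inf_le_inf hE1E le_rfl) (hDn S1 hS1c) with h | h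
  · apply hK₂
    exact (h.trans inf_le_left).trans (hE12.trans (centralizer_le hL2))
  · rcases comp_or hKD' (inf_le_inf hE2E le_rfl) (hDn S2 fun M hM => hM.1) with h' | h'
    · apply hK₁
      exact (h'.trans inf_le_left).trans (hE21.trans (centralizer_le hL1))
    · -- `K` is abelian
      have h1 : K ≤ centralizer (D : Set X) := by
        rw [← commutator_eq_bot_iff_le_centralizer, commutator_comm, commutator_eq_bot_iff_le_centralizer] at h h' ⊢
        exact hD12.trans (sup_le h h')
      have h2 : ⁅K, K⁆ = ⊥ := by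
        rw [commutator_eq_bot_iff_le_centralizer]
        exact h1.trans (centralizer_le hKD)
      rw [comp_perfect hK] at h2
      exact comp_ne_bot hK h2

/-- **The dichotomy.** If `K` centralises `O_p(X)` and there is no `QK`-invariant `p`-subgroup not centralised by `K`, then
`K` is contained in the layer. -/
theorem le_layer_of_not [Finite X] {p q : ℕ} [hp : Fact p.Prime] [hq : Fact q.Prime] (hpq : p ≠ q)
    (hSch : ∀ L : Subgroup X, IsComponent L → Sch (L ⧸ Subgroup.center L))
    (hO : pPrimeCore p X = ⊥) (Q : Subgroup X) (hQ : IsPGroup q Q) (K : Subgroup X)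
    (hK : IsComponentOf K (centralizer (Q : Set X)))
    (hnot : ¬ ∃ R : Subgroup X, IsPGroup p ↥R ∧ Q ≤ normalizer (R : Set X) ∧
      K ≤ normalizer (R : Set X) ∧ ⁅K, R⁆ ≠ ⊥) : K ≤ layer X := by
  have hOp : K ≤ centralizer (pCore p X : Set X) := by
    rw [← commutator_eq_bot_iff_le_centralizer]
    by_contra h
    refine hnot ⟨pCore p X, Cores.pCore_isPGroup p, ?_, ?_, h⟩
    · rw [normalizer_eq_top_iff.2 (Cores.pCore_normal p)]; exact le_top
    · rw [normalizer_eq_top_iff.2 (Cores.pCore_normal p)]; exact le_top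
  have hn : (centralizer (Q : Set X)) ≤
      normalizer ((layer X ⊓ centralizer (Q : Set X) : Subgroup X) : Set X) := by
    intro d hd
    rw [mem_normalizer_iff]
    intro x
    have h3 := mem_normalizer_iff.1 (show d ∈ normalizer (layer X : Set X) by
      rw [normalizer_eq_top_iff.2 (Components.layer_normal X)]; exact mem_top _) x
    have h4 := mem_normalizer_iff.1 (le_normalizer (H := centralizer (Q : Set X)) hd) x
    exact and_congr h3 h4
  rcases comp_or hK inf_le_right hn with h | h
  · exact h.trans inf_le_left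
  · refine le_layer hO K (comp_perfect hK) hSch (fun L hL => ?_) hOp
    by_cases hfix : ∀ x ∈ L, (∀ g ∈ Q, g ∈ normalizer (L : Set X) → g * x = x * g) → x ∈ centralizer (L : Set X)
    · by_contra hKL
      exact hnot (exists_R hpq hO Q hQ K hK.1 L hL hfix hKL)
    · push Not at hfix
      obtain ⟨x, hx, hxQ, hxL⟩ := hfix
      exact normalizes_of_fixed Q hQ K (comp_perfect hK) hK.1 h L hL hx hxL hxQ

theorem dichotomy [Finite X] {p q : ℕ} [hp : Fact p.Prime] [hq : Fact q.Prime] (hpq : p ≠ q)
    (hSch : ∀ L : Subgroup X, IsComponent L → Sch (L ⧸ Subgroup.center L))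
    (hO : pPrimeCore p X = ⊥) (Q : Subgroup X) (hQ : IsPGroup q Q) (K : Subgroup X)
    (hK : IsComponentOf K (centralizer (Q : Set X))) :
    (K ≤ layer X ∧
      ∀ L₁ L₂ : Subgroup X, IsComponent L₁ → IsComponent L₂ →
        ¬ K ≤ centralizer (L₁ : Set X) → ¬ K ≤ centralizer (L₂ : Set X) →
          ∃ g ∈ Q, L₁.map (MulAut.conj g).toMonoidHom = L₂) ∨
    (∃ R : Subgroup X, IsPGroup p ↥R ∧ Q ≤ normalizer (R : Set X) ∧
      K ≤ normalizer (R : Set X) ∧ ⁅K, R⁆ ≠ ⊥) := by
  by_cases hnot : ∃ R : Subgroup X, IsPGroup p ↥R ∧ Q ≤ normalizer (R : Set X) ∧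
      K ≤ normalizer (R : Set X) ∧ ⁅K, R⁆ ≠ ⊥
  · exact Or.inr hnot
  · have h := le_layer_of_not hpq hSch hO Q hQ K hK hnot
    exact Or.inl ⟨h, fun L₁ L₂ h₁ h₂ h3 h4 => transitive hpq hO Q hQ K hK h L₁ L₂ h₁ h₂ h3 h4⟩

end Cfsg.Agent.H12.CompQ
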